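import Groth.Agent.Hocolim.Presentation
import Mathlib.CategoryTheory.Triangulated.Generators

/-!
# A small family of compact objects containing every compact object up to retracts
-/

set_option autoImplicit false
set_option linter.unusedSectionVars false
set_option linter.style.haveILetI false
set_option backward.isDefEq.respectTransparency false
set_option backward.isDefEq.respectTransparency.types false

universe v u

open CategoryTheory Category Limits Pretriangulated Triangulated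
open scoped ZeroObject

namespace Groth.Agent.RepCompact

variable {D : Type u} [Category.{v} D] [Preadditive D] [HasZeroObject D] [HasShift D ℤ]
  [∀ n : ℤ, (shiftFunctor D n).Additive] [Pretriangulated D]

/-- an indexed family -/
structure Fam (D : Type u) where
  /-- the index type -/
  κ : Type v
  /-- the objects -/
  obj : κ → D

/-- one step of closing a family under shifts and cones -/
noncomputable def Fam.step (F : Fam.{v} D) : Fam.{v} D where
  κ := F.κ ⊕ (F.κ × ℤ) ⊕ (Σ a b : F.κ, (F.obj a ⟶ F.obj b))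
  obj := Sum.elim F.obj (Sum.elim (fun p => (F.obj p.1)⟦p.2⟧)
    fun p => (distinguished_cocone_triangle p.2.2).choose)

/-- the closure stages of a family -/
noncomputable def stage (F : Fam.{v} D) : ℕ → Fam.{v} D
  | 0 => F
  | n + 1 => (stage F n).step

/-- the closure of a family under shifts and cones -/
noncomputable def closure (F : Fam.{v} D) : Fam.{v} D where
  κ := Σ n : ℕ, (stage F n).κ
  obj p := (stage F p.1).obj p.2

/-- the objects isomorphic to a member -/
def Fam.mem (F : Fam.{v} D) : ObjectProperty D := fun X => ∃ a, Nonempty (X ≅ F.obj a)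

instance (F : Fam.{v} D) : F.mem.IsClosedUnderIsomorphisms :=
  ⟨fun e ⟨a, ⟨i⟩⟩ => ⟨a, ⟨e.symm ≪≫ i⟩⟩⟩

lemma stage_mono (F : Fam.{v} D) {n m : ℕ} (h : n ≤ m) : (stage F n).mem ≤ (stage F m).mem := by
  induction m, h using Nat.le_induction with
  | base => exact le_rfl
  | succ m _ ih => exact fun X hX => let ⟨a, ha⟩ := ih X hX; ⟨Sum.inl a, ha⟩

lemma mem_closure_iff (F : Fam.{v} D) (X : D) : (closure F).mem X ↔ ∃ n, (stage F n).mem X :=
  ⟨fun ⟨⟨n, a⟩, ha⟩ => ⟨n, a, ha⟩, fun ⟨n, a, ha⟩ => ⟨⟨n, a⟩, ha⟩⟩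

lemma closure_shift (F : Fam.{v} D) {X : D} (hX : (closure F).mem X) (k : ℤ) :
    (closure F).mem (X⟦k⟧) := by
  obtain ⟨n, a, ⟨i⟩⟩ := (mem_closure_iff F X).1 hX
  exact (mem_closure_iff F _).2 ⟨n + 1, Sum.inr (Sum.inl (a, k)), ⟨(shiftFunctor D k).mapIso i⟩⟩

lemma closure_ext₃ (F : Fam.{v} D) (T : Triangle D) (hT : T ∈ distTriang D)
    (h₁ : (closure F).mem T.obj₁) (h₂ : (closure F).mem T.obj₂) : (closure F).mem T.obj₃ := by
  obtain ⟨n₁, hn₁⟩ := (mem_closure_iff F _).1 h₁
  obtain ⟨n₂, hn₂⟩ := (mem_closure_iff F _).1 h₂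
  obtain ⟨a, ⟨i⟩⟩ := stage_mono F (le_max_left n₁ n₂) _ hn₁
  obtain ⟨b, ⟨j⟩⟩ := stage_mono F (le_max_right n₁ n₂) _ hn₂
  refine (mem_closure_iff F _).2 ⟨max n₁ n₂ + 1, Sum.inr (Sum.inr ⟨a, b, i.inv ≫ T.mor₁ ≫ j.hom⟩), ?_⟩
  have hT' := (distinguished_cocone_triangle
    (i.inv ≫ T.mor₁ ≫ j.hom)).choose_spec.choose_spec.choose_spec
  obtain ⟨e, -⟩ := exists_iso_of_arrow_iso T _ hT hT' (Arrow.isoMk i j (by simp))
  exact ⟨Triangle.π₃.mapIso e⟩

variable [IsTriangulated D] [HasCoproducts.{v} D] [HasColimitsOfShape (Discrete ℕ) D]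

/-- there is a small family of compact objects closed under shifts and cones, containing every compact object
up to retracts -/
theorem exists_cells (hD : CohDer.IsCompactlyGenerated D) :
    ∃ (ι : Type v) (E : ι → D) (F : Fam.{v} D), (∀ i, CohDer.IsCompactObject (E i)) ∧ CohDer.Generates E ∧
      (∀ i, F.mem (E i)) ∧ (∀ a, CohDer.IsCompactObject (F.obj a)) ∧ F.mem.IsTriangulated ∧
      ∀ X : D, CohDer.IsCompactObject X → ∃ a, Nonempty (Retract X (F.obj a)) := by
  obtain ⟨ι₀, E₀, hc₀, hgen₀⟩ := hD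
  let E : Option ι₀ → D := fun o => o.elim 0 E₀
  have hc : ∀ o, CohDer.IsCompactObject (E o) := fun o =>
    o.rec (CohDerTri.isCompactObject_of_isZero (isZero_zero D)) hc₀
  have hgen : CohDer.Generates E := fun K h => hgen₀ K fun i => h (some i)
  let F₀ : Fam.{v} D := ⟨Option ι₀, E⟩
  let F := closure F₀
  have hE : ∀ o, F.mem (E o) := fun o => ⟨⟨0, o⟩, ⟨Iso.refl _⟩⟩
  haveI : ObjectProperty.IsClosedUnderIsomorphisms (fun K : D => CohDer.IsCompactObject K) :=
    ⟨CohDerTri.isCompactObject_of_iso⟩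
  haveI := CohDerTri.s0475 (D := D)
  have hcomp : ∀ n a, CohDer.IsCompactObject ((stage F₀ n).obj a) := by
    intro n
    induction n with
    | zero => exact hc
    | succ n ih =>
      rintro (a | ⟨a, k⟩ | ⟨a, b, f⟩)
      · exact ih a
      · exact CohDerTri.isCompactObject_shift (ih a) k
      · exact ObjectProperty.ext_of_isTriangulatedClosed₃ (fun K : D => CohDer.IsCompactObject K) _
          (distinguished_cocone_triangle f).choose_spec.choose_spec.choose_spec (ih a) (ih b)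
  haveI : F.mem.IsStableUnderShift ℤ := ⟨fun k => ⟨fun X hX => closure_shift F₀ hX k⟩⟩
  haveI : F.mem.ContainsZero := ⟨⟨E none, isZero_zero D, hE none⟩⟩
  haveI : F.mem.IsTriangulatedClosed₃ := ObjectProperty.IsTriangulatedClosed₃.mk' (closure_ext₃ F₀)
  haveI : F.mem.IsTriangulatedClosed₂ := ObjectProperty.IsTriangulatedClosed₂.of_isTriangulatedClosed₃
  haveI hF : F.mem.IsTriangulated := {}
  haveI : F.mem.retractClosure.IsTriangulatedClosed₂ :=
    ObjectProperty.IsTriangulatedClosed₂.mk' fun T hT h₁ h₃ => by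
      obtain ⟨Y, hY, hr⟩ := ObjectProperty.extensionProduct_retractClosure_retractClosure_le F.mem F.mem
        T.obj₂ ⟨_, _, T.mor₁, T.mor₂, T.mor₃, hT, h₁, h₃⟩
      exact ⟨Y, ObjectProperty.extensionProduct_le_of_isTriangulatedClosed₂ le_rfl le_rfl Y hY, hr⟩
  haveI : F.mem.retractClosure.IsStableUnderShift ℤ := ⟨fun k => ⟨fun X ⟨Y, hY, ⟨r⟩⟩ =>
    ⟨_, F.mem.le_shift k _ hY, ⟨r.map (shiftFunctor D k)⟩⟩⟩⟩
  haveI : F.mem.retractClosure.ContainsZero :=
    ⟨⟨E none, isZero_zero D, F.mem.le_retractClosure _ (hE none)⟩⟩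
  haveI : F.mem.retractClosure.IsTriangulated := {}
  refine ⟨Option ι₀, E, F, hc, hgen, hE, fun a => hcomp a.1 a.2, hF, fun X hX => ?_⟩
  obtain ⟨K, f, i, ⟨δ, hT⟩, h0, hstep⟩ := Hocolim.exists_presentation E hc hgen X
  obtain ⟨n, g, hg⟩ := CohDerTri.exists_stage f (Sigma.desc i) δ hT hX (𝟙 X)
  obtain ⟨s, hs, W, a, b, hW, hab⟩ := CohDerTri.fac_of_system hc K f h0 hstep X hX n g
  haveI := CohDerTri.nonempty_finFam (E := E) hs
  have hWF : F.mem.retractClosure W :=
    (ObjectProperty.triangEnvelope_le_iff (P := CohDerTri.finFam E s)).2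
      (fun Y ⟨o, _, hY⟩ => F.mem.le_retractClosure _ (hY ▸ hE o)) W hW.1
  obtain ⟨Y, ⟨c, ⟨e⟩⟩, ⟨r⟩⟩ := hWF
  let rX : Retract X W := Retract.mk a (b ≫ Sigma.ι K n ≫ Sigma.desc i) (by rw [reassoc_of% hab, ← hg])
  exact ⟨c, ⟨rX.trans (r.trans (Retract.ofIso e))⟩⟩

end Groth.Agent.RepCompact
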