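import Groth.Agent.RepCompact.Cells
import Mathlib.Algebra.Category.ModuleCat.Basic
import Mathlib.LinearAlgebra.FiniteDimensional.Basic
import Mathlib.RingTheory.Finiteness.Defs

/-!
# Finite dimensional cohomological functors on a small triangulated family are injective
-/

set_option autoImplicit false
set_option linter.unusedSectionVars false
set_option linter.style.haveILetI false
set_option backward.isDefEq.respectTransparency false
set_option backward.isDefEq.respectTransparency.types false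

universe w v u

open CategoryTheory Category Limits Pretriangulated Triangulated

namespace Groth.Agent.RepCompact

variable {k : Type w} [Field k] {D : Type u} [Category.{v} D] [Preadditive D] [HasZeroObject D] [HasShift D ℤ]
  [∀ n : ℤ, (shiftFunctor D n).Additive] [Pretriangulated D]

/-- a contravariant functor on the members of a family, cohomological with finite dimensional values -/
structure Val (k : Type w) [Field k] (F : Fam.{v} D) where
  /-- values -/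
  M : F.κ → ModuleCat.{v} k
  /-- restriction -/
  map : ∀ {a b : F.κ}, (F.obj a ⟶ F.obj b) → (M b →ₗ[k] M a)
  map_id : ∀ a, map (𝟙 (F.obj a)) = LinearMap.id
  map_comp : ∀ {a b c : F.κ} (f : F.obj a ⟶ F.obj b) (g : F.obj b ⟶ F.obj c),
    map (f ≫ g) = (map f).comp (map g)
  map_add : ∀ {a b : F.κ} (f g : F.obj a ⟶ F.obj b), map (f + g) = map f + map g
  exact : ∀ {a b c : F.κ} (f : F.obj a ⟶ F.obj b) (g : F.obj b ⟶ F.obj c)
    (h : F.obj c ⟶ (F.obj a)⟦(1 : ℤ)⟧), Triangle.mk f g h ∈ distTriang D →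
    ∀ y, map f y = 0 → ∃ z, map g z = y
  fin : ∀ a, Module.Finite k (M a)

variable {F : Fam.{v} D} (V : Val k F)

lemma Val.map_zero {a b : F.κ} : V.map (0 : F.obj a ⟶ F.obj b) = 0 := by
  have := V.map_add (0 : F.obj a ⟶ F.obj b) 0
  rw [add_zero] at this
  exact left_eq_add.1 this

lemma Val.map_comp_apply {a b c : F.κ} (f : F.obj a ⟶ F.obj b) (g : F.obj b ⟶ F.obj c) (z : V.M c) :
    V.map (f ≫ g) z = V.map f (V.map g z) := by
  rw [V.map_comp]; rfl

/-- natural additive transformations from `Hom(-, X)` to `V` -/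
def El (X : D) : AddSubgroup (∀ a : F.κ, (F.obj a ⟶ X) →+ V.M a) where
  carrier η := ∀ (a b : F.κ) (g : F.obj a ⟶ F.obj b) (x : F.obj b ⟶ X), η a (g ≫ x) = V.map g (η b x)
  zero_mem' a b g x := by simp
  add_mem' hη hη' a b g x := by simp [hη a b g x, hη' a b g x]
  neg_mem' hη a b g x := by simp [hη a b g x]

/-- a partial transformation, as a compatible family of graphs -/
structure Part (X : D) where
  /-- the graph -/
  R : ∀ a : F.κ, AddSubgroup ((F.obj a ⟶ X) × V.M a)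
  func : ∀ a z, ((0 : F.obj a ⟶ X), z) ∈ R a → z = 0
  closed : ∀ {a b : F.κ} (g : F.obj b ⟶ F.obj a) {x z}, (x, z) ∈ R a → (g ≫ x, V.map g z) ∈ R b

variable {V}

lemma Part.uniq {X : D} (P : Part V X) {a : F.κ} {x : F.obj a ⟶ X} {z z' : V.M a}
    (h : (x, z) ∈ P.R a) (h' : (x, z') ∈ P.R a) : z = z' := by
  rw [← sub_eq_zero]
  refine P.func a _ ?_
  have := (P.R a).sub_mem h h'
  rwa [Prod.mk_sub_mk, sub_self] at this

variable [F.mem.IsTriangulated]

lemma exists_solution_one {X : D} (P : Part V X) {a b : F.κ} (x : F.obj a ⟶ X) (g : F.obj b ⟶ F.obj a)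
    {w : V.M b} (hw : (g ≫ x, w) ∈ P.R b) : ∃ z, V.map g z = w := by
  obtain ⟨K, i, h, hT⟩ := distinguished_cocone_triangle₁ g
  obtain ⟨c, ⟨e⟩⟩ : F.mem K :=
    F.mem.ext_of_isTriangulatedClosed₁ _ hT ⟨b, ⟨Iso.refl _⟩⟩ ⟨a, ⟨Iso.refl _⟩⟩
  have hT' : Triangle.mk (e.inv ≫ i) g (h ≫ e.hom⟦(1 : ℤ)⟧') ∈ distTriang D :=
    isomorphic_distinguished _ hT _ (Triangle.isoMk _ _ e.symm (Iso.refl _) (Iso.refl _) (by simp) (by simp)
      (by simp [← Functor.map_comp]))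
  refine V.exact _ _ _ hT' w (P.func c _ ?_)
  have := P.closed (e.inv ≫ i) hw
  have hig : i ≫ g = 0 := comp_distTriang_mor_zero₁₂ _ hT
  rwa [assoc, reassoc_of% hig, zero_comp, comp_zero] at this

lemma exists_combine {X : D} (P : Part V X) {a b₀ b : F.κ} (x : F.obj a ⟶ X) (g₀ : F.obj b₀ ⟶ F.obj a)
    {w₀ : V.M b₀} (h₀ : (g₀ ≫ x, w₀) ∈ P.R b₀) (g : F.obj b ⟶ F.obj a) {w : V.M b} (h : (g ≫ x, w) ∈ P.R b) :
    ∃ (c : F.κ) (γ : F.obj c ⟶ F.obj a) (ω : V.M c) (i₀ : F.obj b₀ ⟶ F.obj c) (i : F.obj b ⟶ F.obj c),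
      (γ ≫ x, ω) ∈ P.R c ∧ i₀ ≫ γ = g₀ ∧ i ≫ γ = g ∧ V.map i₀ ω = w₀ ∧ V.map i ω = w := by
  obtain ⟨c, ⟨e⟩⟩ : F.mem (F.obj b₀ ⊞ F.obj b) :=
    F.mem.ext_of_isTriangulatedClosed₂ _ (binaryBiproductTriangle_distinguished (F.obj b₀) (F.obj b))
      ⟨b₀, ⟨Iso.refl _⟩⟩ ⟨b, ⟨Iso.refl _⟩⟩
  refine ⟨c, e.inv ≫ biprod.desc g₀ g, V.map (e.inv ≫ biprod.fst) w₀ + V.map (e.inv ≫ biprod.snd) w,
    biprod.inl ≫ e.hom, biprod.inr ≫ e.hom, ?_, by simp, by simp, ?_, ?_⟩
  · have := (P.R c).add_mem (P.closed (e.inv ≫ biprod.fst) h₀) (P.closed (e.inv ≫ biprod.snd) h)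
    rw [Prod.mk_add_mk] at this
    convert this using 2
    simp [biprod.desc_eq]
  · rw [LinearMap.map_add, ← V.map_comp_apply, ← V.map_comp_apply]
    simp [V.map_id, V.map_zero]
  · rw [LinearMap.map_add, ← V.map_comp_apply, ← V.map_comp_apply]
    simp [V.map_id, V.map_zero]

/-- compatible values exist -/
lemma exists_solution {X : D} (P : Part V X) (a : F.κ) (x : F.obj a ⟶ X) :
    ∃ z, ∀ (b : F.κ) (g : F.obj b ⟶ F.obj a) (w : V.M b), (g ≫ x, w) ∈ P.R b → V.map g z = w := by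
  let Λ := Σ' (b : F.κ) (g : F.obj b ⟶ F.obj a) (w : V.M b), (g ≫ x, w) ∈ P.R b
  haveI := V.fin a
  have hne : Nonempty Λ := ⟨⟨a, 0, 0, by rw [zero_comp]; exact (P.R a).zero_mem⟩⟩
  obtain ⟨⟨b₀, g₀, w₀, h₀⟩, hmin⟩ : ∃ l : Λ, ∀ l' : Λ,
      Module.finrank k (LinearMap.ker (V.map l.2.1)) ≤ Module.finrank k (LinearMap.ker (V.map l'.2.1)) :=
    ⟨_, fun l' => Function.argmin_le (fun l : Λ => Module.finrank k (LinearMap.ker (V.map l.2.1))) l'⟩
  obtain ⟨z, hz⟩ := exists_solution_one P x g₀ h₀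
  refine ⟨z, fun b g w h => ?_⟩
  obtain ⟨c, γ, ω, i₀, i, hγ, e₀, e, eω₀, eω⟩ := exists_combine P x g₀ h₀ g h
  obtain ⟨z', hz'⟩ := exists_solution_one P x γ hγ
  have hle : LinearMap.ker (V.map γ) ≤ LinearMap.ker (V.map g₀) := fun y hy => by
    rw [LinearMap.mem_ker] at hy ⊢
    rw [← e₀, V.map_comp_apply, hy, LinearMap.map_zero]
  have hker : LinearMap.ker (V.map γ) = LinearMap.ker (V.map g₀) :=
    Submodule.eq_of_le_of_finrank_le hle (hmin ⟨c, γ, ω, hγ⟩)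
  have hmem : z - z' ∈ LinearMap.ker (V.map g₀) := by
    rw [LinearMap.mem_ker, map_sub, hz, ← e₀, V.map_comp_apply, hz', eω₀, sub_self]
  rw [← hker, LinearMap.mem_ker, map_sub, sub_eq_zero] at hmem
  rw [← e, V.map_comp_apply, hmem, hz', eω]

/-- the union of a chain of partial transformations -/
lemma exists_ub {X : D} {S : Set (Part V X)} (hS : IsChain (fun P Q => ∀ a, P.R a ≤ Q.R a) S) (hne : S.Nonempty) :
    ∃ U : Part V X, ∀ P ∈ S, ∀ a, P.R a ≤ U.R a := by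
  haveI : Nonempty S := hne.to_subtype
  have dir : ∀ a, Directed (· ≤ ·) (fun P : S => P.1.R a) := fun a P Q => by
    by_cases h : P.1 = Q.1
    · obtain rfl : P = Q := Subtype.ext h
      exact ⟨P, le_rfl, le_rfl⟩
    · exact (hS P.2 Q.2 h).elim (fun h' => ⟨Q, h' a, le_rfl⟩) fun h' => ⟨P, le_rfl, h' a⟩
  refine ⟨⟨fun a => ⨆ P : S, P.1.R a, fun a z hz => ?_, fun {a b} g {x z} hz => ?_⟩,
    fun P hP a => le_iSup (fun P : S => P.1.R a) ⟨P, hP⟩⟩
  · obtain ⟨P, hP⟩ := (AddSubgroup.mem_iSup_of_directed (dir a)).1 hz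
    exact P.1.func a z hP
  · obtain ⟨P, hP⟩ := (AddSubgroup.mem_iSup_of_directed (dir a)).1 hz
    exact le_iSup (fun P : S => P.1.R b) P (P.1.closed g hP)

/-- partial transformations extend to total ones -/
theorem exists_extend {X : D} (P₀ : Part V X) :
    ∃ η ∈ El V X, ∀ a x z, (x, z) ∈ P₀.R a → η a x = z := by
  obtain ⟨P, hP₀, hmax⟩ : ∃ P : Part V X, (∀ a, P₀.R a ≤ P.R a) ∧
      ∀ Q : Part V X, (∀ a, P.R a ≤ Q.R a) → ∀ a, Q.R a ≤ P.R a := by
    let r : {P : Part V X // ∀ a, P₀.R a ≤ P.R a} → {P : Part V X // ∀ a, P₀.R a ≤ P.R a} → Prop :=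
      fun P Q => ∀ a, P.1.R a ≤ Q.1.R a
    haveI : Nonempty {P : Part V X // ∀ a, P₀.R a ≤ P.R a} := ⟨⟨P₀, fun _ => le_rfl⟩⟩
    obtain ⟨⟨P, hP⟩, hm⟩ := exists_maximal_of_nonempty_chains_bounded (r := r) (fun c hc hne => by
      obtain ⟨U, hU⟩ := exists_ub (S := Subtype.val '' c) (by
        rintro _ ⟨P, hP, rfl⟩ _ ⟨Q, hQ, rfl⟩ hPQ
        exact hc hP hQ fun h => hPQ (congrArg Subtype.val h)) (hne.image _)
      obtain ⟨P, hP⟩ := hne
      exact ⟨⟨U, fun a => (P.2 a).trans (hU _ ⟨P, hP, rfl⟩ a)⟩, fun Q hQ => hU _ ⟨Q, hQ, rfl⟩⟩)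
      (fun h h' a => (h a).trans (h' a))
    exact ⟨P, hP, fun Q hQ => hm ⟨Q, fun a => (hP a).trans (hQ a)⟩ hQ⟩
  have total : ∀ a x, ∃ z, (x, z) ∈ P.R a := by
    intro a x
    obtain ⟨z, hz⟩ := exists_solution P a x
    let G : ∀ b, (F.obj b ⟶ F.obj a) →+ (F.obj b ⟶ X) × V.M b := fun b =>
      AddMonoidHom.mk' (fun g => (g ≫ x, V.map g z)) (fun g g' => by
        rw [Preadditive.add_comp, V.map_add]; rfl)
    let Q : Part V X :=
      { R := fun b => P.R b ⊔ (G b).range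
        func := fun b w hw => by
          obtain ⟨⟨y, u⟩, hy, _, ⟨g, rfl⟩, hg⟩ := AddSubgroup.mem_sup.1 hw
          change (y, u) + (g ≫ x, V.map g z) = _ at hg
          rw [Prod.mk_add_mk, Prod.mk.injEq] at hg
          have h1 := (P.R b).neg_mem hy
          rw [Prod.neg_mk, neg_eq_of_add_eq_zero_right hg.1] at h1
          rw [← hg.2, hz b g _ h1, add_neg_cancel]
        closed := fun {c b} g {y u} hyu => by
          obtain ⟨⟨y', u'⟩, hy, _, ⟨g', rfl⟩, hg⟩ := AddSubgroup.mem_sup.1 hyu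
          change (y', u') + (g' ≫ x, V.map g' z) = _ at hg
          rw [Prod.mk_add_mk, Prod.mk.injEq] at hg
          refine AddSubgroup.mem_sup.2 ⟨_, P.closed g hy, _, ⟨g ≫ g', rfl⟩, ?_⟩
          change (g ≫ y', V.map g u') + ((g ≫ g') ≫ x, V.map (g ≫ g') z) = _
          rw [Prod.mk_add_mk, V.map_comp_apply, assoc, ← Preadditive.comp_add, ← LinearMap.map_add, hg.1, hg.2] }
    refine ⟨z, hmax Q (fun b => le_sup_left) a (AddSubgroup.mem_sup_right ⟨𝟙 _, ?_⟩)⟩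
    change (𝟙 _ ≫ x, V.map (𝟙 _) z) = _
    rw [id_comp, V.map_id]
    rfl
  choose η hη using total
  refine ⟨fun a => AddMonoidHom.mk' (η a) (fun x y => P.uniq (hη a (x + y)) ?_), ?_, ?_⟩
  · have := (P.R a).add_mem (hη a x) (hη a y)
    rwa [Prod.mk_add_mk] at this
  · intro a b g x
    exact P.uniq (hη a (g ≫ x)) (P.closed g (hη b x))
  · intro a x z hxz
    exact P.uniq (hη a x) (hP₀ a hxz)

end Groth.Agent.RepCompact
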