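import Groth.Agent.RepCompact.Extend
import Groth.Agent.Brown.Apply
import Mathlib.CategoryTheory.Linear.Yoneda
import Mathlib.CategoryTheory.Linear.LinearFunctor

/-!
# Finite dimensional cohomological functors on compact objects are representable
-/

set_option autoImplicit false
set_option linter.unusedSectionVars false
set_option linter.style.haveILetI false
set_option backward.isDefEq.respectTransparency false
set_option backward.isDefEq.respectTransparency.types false

universe w v u

open CategoryTheory Category Limits Pretriangulated Triangulated Opposite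

namespace Groth.Agent.RepCompact

variable {k : Type w} [Field k] {D : Type u} [Category.{v} D] [Preadditive D] [HasZeroObject D] [HasShift D ℤ]
  [∀ n : ℤ, (shiftFunctor D n).Additive] [Pretriangulated D]

section

variable {F : Fam.{v} D} (V : Val k F)

/-- pullback of transformations -/
def pull {X X' : D} (f : X' ⟶ X) : El V X →+ El V X' :=
  AddMonoidHom.mk' (fun η => ⟨fun a => (η.1 a).comp (Preadditive.rightComp (F.obj a) f),
    fun a b g x => by
      change η.1 a ((g ≫ x) ≫ f) = V.map g (η.1 b (x ≫ f))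
      rw [assoc, η.2]⟩) (fun η η' => rfl)

lemma pull_apply {X X' : D} (f : X' ⟶ X) (η : El V X) (a : F.κ) (x : F.obj a ⟶ X') :
    (pull V f η).1 a x = η.1 a (x ≫ f) := rfl

lemma El.ext' {X : D} {η η' : El V X} (h : ∀ a x, η.1 a x = η'.1 a x) : η = η' :=
  Subtype.ext (funext fun a => AddMonoidHom.ext (h a))

/-- the extension of `V` to all objects -/
def Ext : Dᵒᵖ ⥤ AddCommGrpCat.{v} where
  obj X := AddCommGrpCat.of (El V X.unop)
  map f := AddCommGrpCat.ofHom (pull V f.unop)
  map_id X := by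
    ext η : 2
    refine El.ext' V fun a x => ?_
    change η.1 a (x ≫ 𝟙 _) = η.1 a x
    rw [comp_id]
  map_comp f g := by
    ext η : 2
    refine El.ext' V fun a x => ?_
    change η.1 a (x ≫ g.unop ≫ f.unop) = η.1 a ((x ≫ g.unop) ≫ f.unop)
    rw [assoc]

lemma res_eq {X X' : D} (f : X' ⟶ X) (η : El V X) : Brown.res (Ext V) f η = pull V f η := rfl

lemma bijective_at (a : F.κ) : Function.Bijective fun ζ : El V (F.obj a) => ζ.1 a (𝟙 _) := by
  refine ⟨fun ζ ζ' h => El.ext' V fun b g => ?_, fun z =>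
    ⟨⟨fun b => AddMonoidHom.mk' (fun g => V.map g z) (fun g g' => by rw [V.map_add]; rfl),
      fun b c g x => V.map_comp_apply g x z⟩, ?_⟩⟩
  · have h1 := ζ.2 b a g (𝟙 _)
    have h2 := ζ'.2 b a g (𝟙 _)
    rw [comp_id] at h1 h2
    rw [h1, h2]
    exact congrArg (V.map g) h
  · change V.map (𝟙 _) z = z
    rw [V.map_id]
    rfl

variable [F.mem.IsTriangulated] [HasCoproducts.{v} D] [HasColimitsOfShape (Discrete ℕ) D]
  (hc : ∀ a, CohDer.IsCompactObject (F.obj a))

include hc in
lemma bijective_pi {J : Type v} (X : J → D) :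
    Function.Bijective fun (η : El V (∐ X)) (j : J) => pull V (Sigma.ι X j) η := by
  classical
  refine ⟨fun η η' h => El.ext' V fun a f => ?_, fun ζ => ?_⟩
  · obtain ⟨x, rfl⟩ := (hc a J X).2 f
    induction x using DirectSum.induction_on with
    | zero => simp
    | of j g =>
      rw [CohDerTri.homSum_of]
      exact congrArg (fun θ : El V (X j) => θ.1 a g) (congrFun h j)
    | add x y hx hy => rw [map_add, map_add, map_add, hx, hy]
  · let e : ∀ a, DirectSum J (fun j => F.obj a ⟶ X j) ≃+ (F.obj a ⟶ ∐ X) := fun a =>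
      AddEquiv.ofBijective _ (hc a J X)
    refine ⟨⟨fun a => (DirectSum.toAddMonoid fun j => (ζ j).1 a).comp (e a).symm.toAddMonoidHom,
      fun a b g f => ?_⟩, funext fun j => El.ext' V fun a g => ?_⟩
    · obtain ⟨x, rfl⟩ := (e b).surjective f
      change DirectSum.toAddMonoid (fun j => (ζ j).1 a) ((e a).symm (g ≫ e b x)) =
        V.map g (DirectSum.toAddMonoid (fun j => (ζ j).1 b) ((e b).symm (e b x)))
      rw [show g ≫ e b x = e a (CohDerTri.precompSum g X x) from (CohDerTri.homSum_precomp g X x).symm,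
        AddEquiv.symm_apply_apply, AddEquiv.symm_apply_apply]
      induction x using DirectSum.induction_on with
      | zero => simp
      | of j h =>
        rw [CohDerTri.precompSum, DirectSum.map_of, DirectSum.toAddMonoid_of, DirectSum.toAddMonoid_of]
        exact (ζ j).2 a b g h
      | add x y hx hy => rw [map_add, map_add, map_add, LinearMap.map_add, hx, hy]
    · change DirectSum.toAddMonoid (fun j => (ζ j).1 a) ((e a).symm (g ≫ Sigma.ι X j)) = (ζ j).1 a g
      rw [show g ≫ Sigma.ι X j = e a (DirectSum.of _ j g) from (CohDerTri.homSum_of _ X j g).symm,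
        AddEquiv.symm_apply_apply, DirectSum.toAddMonoid_of]

include hc in
lemma isBrown : Brown.IsBrown (Ext V) where
  additive := ⟨fun {X Y f g} => by
    ext η : 2
    refine El.ext' V fun a x => ?_
    change η.1 a (x ≫ (f.unop + g.unop)) = η.1 a (x ≫ f.unop) + η.1 a (x ≫ g.unop)
    rw [Preadditive.comp_add, map_add]⟩
  exact T hT y hy := by
    let η : El V T.obj₂ := y
    have h0 : ∀ a (x : F.obj a ⟶ T.obj₁), η.1 a (x ≫ T.mor₁) = 0 := fun a x =>
      congrArg (fun θ : El V T.obj₁ => θ.1 a x) hy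
    let G : ∀ a, (F.obj a ⟶ T.obj₂) →+ (F.obj a ⟶ T.obj₃) × V.M a := fun a =>
      AddMonoidHom.prod (Preadditive.rightComp (F.obj a) T.mor₂) (η.1 a)
    let P : Part V T.obj₃ :=
      { R := fun a => (G a).range
        func := fun a z ⟨f, hf⟩ => by
          have hf₁ : f ≫ T.mor₂ = 0 := congrArg Prod.fst hf
          obtain ⟨x, hx⟩ := Triangle.coyoneda_exact₂ _ hT f hf₁
          have hf₂ : η.1 a f = z := congrArg Prod.snd hf
          rw [← hf₂, hx, h0]
        closed := fun {a b} g {x z} ⟨f, hf⟩ => ⟨g ≫ f, by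
          change ((g ≫ f) ≫ T.mor₂, η.1 b (g ≫ f)) = _
          rw [assoc, η.2, show x = f ≫ T.mor₂ from (congrArg Prod.fst hf).symm,
            show z = η.1 a f from (congrArg Prod.snd hf).symm]⟩ }
    obtain ⟨ζ, hζ, hext⟩ := exists_extend P
    exact ⟨(⟨ζ, hζ⟩ : El V T.obj₃), El.ext' V fun a f => hext a _ _ ⟨f, rfl⟩⟩
  pi X _ := bijective_pi V hc X
  piNat X := by
    let X' : ULift.{v} ℕ → D := fun m => X m.down
    let φ : ∐ X ⟶ ∐ X' := Sigma.desc fun m => Sigma.ι X' ⟨m⟩
    let ψ : ∐ X' ⟶ ∐ X := Sigma.desc fun m => Sigma.ι X m.down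
    have hφ : φ ≫ ψ = 𝟙 _ := Sigma.hom_ext _ _ fun n => by simp [φ, ψ, X']
    have hψ : ψ ≫ φ = 𝟙 _ := Sigma.hom_ext _ _ fun n => by simp [φ, ψ, X']
    have hb := bijective_pi V hc X'
    refine ⟨fun η η' h => ?_, fun ζ => ?_⟩
    · let η₁ : El V (∐ X) := η
      let η₂ : El V (∐ X) := η'
      have : pull V ψ η₁ = pull V ψ η₂ := hb.1 (funext fun m => El.ext' V fun a x => by
        have := congrArg (fun θ : El V (X m.down) => θ.1 a x) (congrFun h m.down)
        simpa [res_eq, pull_apply, ψ, X'] using this)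
      refine El.ext' V fun a x => ?_
      have := congrArg (fun θ : El V (∐ X') => θ.1 a (x ≫ φ)) this
      simpa [pull_apply, hφ] using this
    · obtain ⟨η, hη⟩ := hb.2 fun m => ζ m.down
      refine ⟨pull V φ η, funext fun n => El.ext' V fun a x => ?_⟩
      have := congrArg (fun θ : El V (X n) => θ.1 a x) (congrFun hη ⟨n⟩)
      simpa [res_eq, pull_apply, φ, X'] using this

include hc in
/-- `V` is represented by an object on the members of the family -/
theorem exists_rep {ι : Type v} (E : ι → D) (hE : ∀ i, CohDer.IsCompactObject (E i))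
    (hgen : CohDer.Generates E) :
    ∃ (Y : D) (η : El V Y), ∀ a, Function.Bijective (η.1 a) := by
  obtain ⟨Y, ⟨r⟩⟩ := (Brown.isRepresentable_of_compact E hE hgen (isBrown V hc)).has_representation
  refine ⟨Y, r.homEquiv (𝟙 Y), fun a => ?_⟩
  have h : ∀ f : F.obj a ⟶ Y,
      (r.homEquiv (𝟙 Y) : El V Y).1 a f = (r.homEquiv f : El V (F.obj a)).1 a (𝟙 _) := fun f => by
    rw [r.homEquiv_eq f]
    change _ = (r.homEquiv (𝟙 Y) : El V Y).1 a (𝟙 _ ≫ f)
    rw [id_comp]
  rw [show ⇑((r.homEquiv (𝟙 Y) : El V Y).1 a) =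
    (fun ζ : El V (F.obj a) => ζ.1 a (𝟙 _)) ∘ (r.homEquiv (X := F.obj a)) from funext h]
  exact (bijective_at V a).comp r.homEquiv.bijective

end

variable [IsTriangulated D] [HasCoproducts.{v} D] [Linear k D]

/-- **Representability on compact objects.** -/
theorem exists_iso (hD : CohDer.IsCompactlyGenerated D)
    (H : (ObjectProperty.FullSubcategory (fun K : D => CohDer.IsCompactObject K))ᵒᵖ ⥤ ModuleCat.{v} k)
    [H.Additive]
    (hlin : ∀ (X Y : ObjectProperty.FullSubcategory (fun K : D => CohDer.IsCompactObject K))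
      (r : k) (f : X ⟶ Y), H.map (r • f).op = r • H.map f.op)
    (hcoh : ∀ T ∈ distTriang D, ∀ (h₁ : CohDer.IsCompactObject T.obj₁)
      (h₂ : CohDer.IsCompactObject T.obj₂) (h₃ : CohDer.IsCompactObject T.obj₃)
      (y : H.obj (op ⟨T.obj₂, h₂⟩)),
      H.map (ObjectProperty.homMk T.mor₁ : (⟨T.obj₁, h₁⟩ : ObjectProperty.FullSubcategory
          (fun K : D => CohDer.IsCompactObject K)) ⟶ ⟨T.obj₂, h₂⟩).op y = 0 →
        ∃ z : H.obj (op ⟨T.obj₃, h₃⟩),
          H.map (ObjectProperty.homMk T.mor₂ : (⟨T.obj₂, h₂⟩ : ObjectProperty.FullSubcategory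
            (fun K : D => CohDer.IsCompactObject K)) ⟶ ⟨T.obj₃, h₃⟩).op z = y)
    (hfin : ∀ X, Module.Finite k (H.obj X)) :
    ∃ Y : D, Nonempty (H ≅ (ObjectProperty.ι _).op ⋙ (linearYoneda k D).obj Y) := by
  haveI : HasColimitsOfShape (Discrete ℕ) D := Brown.hasColimitsOfShape_nat
  obtain ⟨ι, E, F, hE, hgen, -, hc, hF, hretr⟩ := exists_cells hD
  let cell : F.κ → ObjectProperty.FullSubcategory (fun K : D => CohDer.IsCompactObject K) := fun a => ⟨F.obj a, hc a⟩
  let hm : ∀ {a b : F.κ}, (F.obj a ⟶ F.obj b) → (cell a ⟶ cell b) := fun g => ObjectProperty.homMk g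
  let V : Val k F :=
    { M := fun a => H.obj (op (cell a))
      map := fun g => (H.map (hm g).op).hom
      map_id := fun a => by
        rw [show hm (𝟙 (F.obj a)) = 𝟙 _ from rfl, op_id, H.map_id]
        rfl
      map_comp := fun f g => by
        rw [show hm (f ≫ g) = hm f ≫ hm g from rfl, op_comp, H.map_comp]
        rfl
      map_add := fun f g => by
        rw [show hm (f + g) = hm f + hm g from rfl, op_add, H.map_add]
        rfl
      exact := fun {a b c} f g h hT y hy => hcoh _ hT (hc a) (hc b) (hc c) y hy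
      fin := fun a => hfin _ }
  obtain ⟨Y, η, hη⟩ := exists_rep V hc E hE hgen
  choose A hA using hretr
  let rt : ∀ C : ObjectProperty.FullSubcategory (fun K : D => CohDer.IsCompactObject K),
      Retract C.obj (F.obj (A C.obj C.property)) := fun C => (hA C.obj C.property).some
  let s : ∀ C, C ⟶ cell (A C.obj C.property) := fun C => ObjectProperty.homMk (rt C).i
  let t : ∀ C, cell (A C.obj C.property) ⟶ C := fun C => ObjectProperty.homMk (rt C).r
  have hst : ∀ C, s C ≫ t C = 𝟙 C := fun C => ObjectProperty.hom_ext _ (rt C).retract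
  let e : ∀ C, (C.obj ⟶ Y) → H.obj (op C) := fun C f => H.map (s C).op (η.1 _ ((rt C).r ≫ f))
  have Hc : ∀ {P Q R : ObjectProperty.FullSubcategory (fun K : D => CohDer.IsCompactObject K)}
      (f : P ⟶ Q) (g : Q ⟶ R) (x : H.obj (op R)), H.map f.op (H.map g.op x) = H.map (f ≫ g).op x :=
    fun f g x => by rw [op_comp, H.map_comp]; rfl
  have hη' : ∀ {a b : F.κ} (g : cell a ⟶ cell b) (x : F.obj b ⟶ Y), η.1 a (g.hom ≫ x) = H.map g.op (η.1 b x) :=
    fun {a b} g x => η.2 a b g.hom x
  have hnat : ∀ {C' C : ObjectProperty.FullSubcategory (fun K : D => CohDer.IsCompactObject K)}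
      (g : C' ⟶ C) (f : C.obj ⟶ Y), e C' (g.hom ≫ f) = H.map g.op (e C f) := by
    intro C' C g f
    simp only [e]
    rw [Hc, show (rt C').r ≫ g.hom ≫ f = (t C' ≫ g ≫ s C).hom ≫ (rt C).r ≫ f by
      change _ = ((rt C').r ≫ g.hom ≫ (rt C).i) ≫ (rt C).r ≫ f
      simp, hη', Hc, reassoc_of% (hst C')]
  have hadd : ∀ C f f', e C (f + f') = e C f + e C f' := fun C f f' => by
    simp only [e, Preadditive.comp_add, map_add]
  have hsmul : ∀ C (r : k) f, e C (r • f) = r • e C f := fun C r f => by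
    have := hnat (r • 𝟙 C) f
    rw [show (r • 𝟙 C).hom ≫ f = r • f by
      change (r • 𝟙 C.obj) ≫ f = r • f
      rw [Linear.smul_comp, id_comp], hlin, op_id, H.map_id] at this
    simpa using this
  have hbij : ∀ C, Function.Bijective (e C) := fun C => by
    have hts : ∀ f : F.obj (A C.obj C.property) ⟶ Y,
        η.1 _ ((t C ≫ s C).hom ≫ f) = H.map (t C ≫ s C).op (η.1 _ f) := fun f => hη' _ f
    refine ⟨fun f f' h => ?_, fun z => ?_⟩
    · have h1 : ∀ f : C.obj ⟶ Y, (rt C).r ≫ f = (t C ≫ s C).hom ≫ (rt C).r ≫ f := fun f => by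
        change _ = ((rt C).r ≫ (rt C).i) ≫ (rt C).r ≫ f
        simp
      have h2 : η.1 _ ((rt C).r ≫ f) = η.1 _ ((rt C).r ≫ f') := by
        rw [h1 f, h1 f', hts, hts, ← Hc (t C) (s C), ← Hc (t C) (s C)]
        exact congrArg (H.map (t C).op) h
      have h3 := congrArg ((rt C).i ≫ ·) ((hη _).1 h2)
      simpa using h3
    · obtain ⟨f, hf⟩ := (hη _).2 (H.map (t C).op z)
      refine ⟨(rt C).i ≫ f, ?_⟩
      simp only [e]
      rw [show (rt C).r ≫ (rt C).i ≫ f = (t C ≫ s C).hom ≫ f from (assoc _ _ _).symm, hts]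
      erw [hf]
      rw [Hc, Hc, reassoc_of% (hst C), hst C, op_id, H.map_id]
      rfl
  let L : ∀ C, (C.obj ⟶ Y) ≃ₗ[k] H.obj (op C) := fun C =>
    LinearEquiv.ofBijective { toFun := e C, map_add' := hadd C, map_smul' := hsmul C } (hbij C)
  refine ⟨Y, ⟨(NatIso.ofComponents (fun C => (L C.unop).toModuleIso) fun {C C'} g => ?_).symm⟩⟩
  ext f
  exact hnat g.unop f

end Groth.Agent.RepCompact
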